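import Mathlib
import Groth.Prelude.Def_EtGlue
import Groth.Agent.FlatCrit.Basic
import Groth.Agent.CAlgH.BLGlue2

/-!
# `Tor₁` along glueing pairs

For a glueing pair `(R → R', f)` we show `Tor₁(R', Q) = 0` for `f`-power torsion modules `Q`,
for `Q = f ^ n R` and for `Q = R / R[f^∞]`.
-/

universe u

open TensorProduct

namespace Groth.Agent.BLTor

open Groth.Agent.FlatCrit Groth.Agent.CAlgH

variable {R R' : Type u} [CommRing R] [CommRing R'] [Algebra R R'] {f : R}

theorem eq_zero_of_map_eq_zero (h : EtGlue.IsGlueingPair R R' f) {k : R} {n : ℕ}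
    (h0 : algebraMap R R' k = 0) (hk : f ^ n * k = 0) : k = 0 := by
  refine h.2.1 (Prod.ext (by simpa using h0) ?_)
  show algebraMap R (Localization.Away f) k = algebraMap R _ 0
  rw [map_zero]
  exact (IsLocalization.map_eq_zero_iff (Submonoid.powers f) _ k).mpr ⟨⟨f ^ n, n, rfl⟩, hk⟩

theorem exists_torsion (h : EtGlue.IsGlueingPair R R' f) {x : R'} {n : ℕ}
    (hx : algebraMap R R' f ^ n * x = 0) :
    ∃ (k : R) (N : ℕ), algebraMap R R' k = x ∧ f ^ N * k = 0 := by
  obtain ⟨r, h1, h2⟩ := h.2.2.1 x 0 (by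
    rw [map_zero]
    exact (IsLocalization.map_eq_zero_iff (Submonoid.powers _) _ x).mpr ⟨⟨_, n, rfl⟩, hx⟩)
  obtain ⟨⟨_, N, rfl⟩, hN⟩ := (IsLocalization.map_eq_zero_iff (Submonoid.powers f) _ r).mp h2
  exact ⟨r, N, h1, hN⟩

/-- `Tor₁(R', R / f ^ n) = 0`. -/
theorem lTensor_span_injective (h : EtGlue.IsGlueingPair R R' f) (n : ℕ) :
    Function.Injective ((Ideal.span {f ^ n}).subtype.lTensor R') := by
  let I := Ideal.span {f ^ n}
  let u : R →ₗ[R] I := LinearMap.toSpanSingleton R I ⟨f ^ n, Ideal.mem_span_singleton_self _⟩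
  have hu : Function.Surjective u := fun ⟨y, hy⟩ => by
    obtain ⟨r, hr⟩ := Ideal.mem_span_singleton'.mp hy
    exact ⟨r, Subtype.ext hr⟩
  rw [injective_iff_map_eq_zero]
  intro z hz
  obtain ⟨w, rfl⟩ := LinearMap.lTensor_surjective R' hu z
  obtain ⟨x, rfl⟩ : ∃ x : R', x ⊗ₜ[R] (1 : R) = w :=
    ⟨TensorProduct.rid R R' w, (TensorProduct.rid R R').symm_apply_apply w⟩
  have hz' := congrArg (TensorProduct.rid R R') hz
  rw [LinearMap.lTensor_tmul, LinearMap.lTensor_tmul, TensorProduct.rid_tmul, map_zero] at hz'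
  have hx : algebraMap R R' f ^ n * x = 0 := by
    rw [← map_pow, ← Algebra.smul_def]
    simpa [u] using hz'
  obtain ⟨k, N, hk, hN⟩ := exists_torsion h hx
  have hk0 : f ^ n * k = 0 := by
    refine eq_zero_of_map_eq_zero h (n := N) (by rw [map_mul, map_pow, hk, hx]) ?_
    rw [mul_left_comm, hN, mul_zero]
  have huk : u k = 0 := Subtype.ext (by simpa [u, mul_comm] using hk0)
  rw [LinearMap.lTensor_tmul, ← hk, Algebra.algebraMap_eq_smul_one, TensorProduct.smul_tmul, ← map_smul,
    smul_eq_mul, mul_one, huk, TensorProduct.tmul_zero]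

/-- `R' / f ^ n R'` is free over `R / f ^ n R`. -/
theorem flat_quot (h : EtGlue.IsGlueingPair R R' f) {n : ℕ} (hn : 0 < n) :
    Module.Flat (R ⧸ Ideal.span {f ^ n}) ((R ⧸ Ideal.span {f ^ n}) ⊗[R] R') := by
  set I := Ideal.span {f ^ n} with hI
  let g : (R ⧸ I) ⊗[R] R' →ₐ[R] R' ⧸ I.map (algebraMap R R') :=
    Algebra.TensorProduct.lift (Ideal.quotientMapₐ (I.map (algebraMap R R')) (Algebra.ofId R R') Ideal.le_comap_map)
      (Ideal.Quotient.mkₐ R _) fun _ _ => Commute.all _ _
  let v : (R ⧸ I) →ₗ[R ⧸ I] (R ⧸ I) ⊗[R] R' :=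
    LinearMap.toSpanSingleton (R ⧸ I) _ ((1 : R ⧸ I) ⊗ₜ[R] (1 : R'))
  have hv : ∀ a, v a = a ⊗ₜ[R] (1 : R') := fun a => by
    simp [v, TensorProduct.smul_tmul']
  refine Module.Flat.of_linearEquiv (LinearEquiv.ofBijective v ⟨fun a b hab => ?_, fun z => ?_⟩).symm
  · refine (h.1 n hn).1 ?_
    have hg := congrArg g hab
    simp only [hv, g, Algebra.TensorProduct.lift_tmul, map_one, mul_one] at hg
    exact hg
  · induction z using TensorProduct.induction_on with
    | zero => exact ⟨0, map_zero v⟩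
    | tmul a r =>
      obtain ⟨b, hb⟩ := (h.1 n hn).2 (Ideal.Quotient.mk _ r)
      obtain ⟨b, rfl⟩ := Ideal.Quotient.mk_surjective b
      rw [Ideal.quotientMap_mk, eq_comm, Ideal.Quotient.eq, Ideal.map_span, Set.image_singleton,
        Ideal.mem_span_singleton'] at hb
      obtain ⟨t, ht⟩ := hb
      refine ⟨b • a, ?_⟩
      have h0 : f ^ n • a = 0 := by
        obtain ⟨a, rfl⟩ := Ideal.Quotient.mk_surjective a
        rw [← Ideal.Quotient.mk_eq_mk, ← Submodule.Quotient.mk_smul, Submodule.Quotient.mk_eq_zero]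
        exact Ideal.mul_mem_right _ _ (Ideal.mem_span_singleton_self _)
      rw [hv, show r = b • (1 : R') + f ^ n • t by
          rw [Algebra.smul_def, mul_one, Algebra.smul_def, mul_comm _ t, ht]; ring,
        TensorProduct.tmul_add, TensorProduct.tmul_smul, TensorProduct.tmul_smul, TensorProduct.smul_tmul',
        TensorProduct.smul_tmul', h0, TensorProduct.zero_tmul, add_zero]
    | add a b ha hb =>
      obtain ⟨x, rfl⟩ := ha
      obtain ⟨y, rfl⟩ := hb
      exact ⟨x + y, map_add v x y⟩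

theorem torZero_of_pow_smul (h : EtGlue.IsGlueingPair R R' f) {n : ℕ} (hn : 0 < n) {Q : Type u}
    [AddCommGroup Q] [Module R Q] (hQ : ∀ q : Q, f ^ n • q = 0) : TorZero R R' Q := by
  haveI := flat_quot h hn
  refine torZero_of_smul_eq_bot (lTensor_span_injective h n) ?_
  rw [eq_bot_iff, Submodule.smul_le]
  intro r hr q _
  obtain ⟨c, rfl⟩ := Ideal.mem_span_singleton'.mp hr
  simp [mul_smul, hQ]

/-- `Tor₁(R', Q) = 0` for `f`-power torsion `Q`. -/
theorem torZero_of_torsion (h : EtGlue.IsGlueingPair R R' f) {Q : Type u} [AddCommGroup Q] [Module R Q]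
    (hQ : ∀ q : Q, ∃ n : ℕ, f ^ n • q = 0) : TorZero R R' Q := by
  let Qn : ℕ → Submodule R Q := fun n => LinearMap.ker (LinearMap.lsmul R Q (f ^ (n + 1)))
  have hmono : Monotone Qn := fun a b hab q hq => by
    obtain ⟨c, rfl⟩ := Nat.exists_eq_add_of_le hab
    simp only [Qn, LinearMap.mem_ker, LinearMap.lsmul_apply] at hq ⊢
    rw [show a + c + 1 = c + (a + 1) by ring, pow_add, mul_smul, hq, smul_zero]
  rw [TorZero, injective_iff_map_eq_zero]
  intro z hz
  obtain ⟨n, w, rfl⟩ : ∃ (n : ℕ) (w : rel R R' ⊗[R] Qn n), (Qn n).subtype.lTensor _ w = z := by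
    clear hz
    induction z using TensorProduct.induction_on with
    | zero => exact ⟨0, 0, map_zero _⟩
    | tmul a q =>
      obtain ⟨n, hn⟩ := hQ q
      exact ⟨n, a ⊗ₜ ⟨q, by simp [Qn, pow_succ', mul_smul, hn]⟩, rfl⟩
    | add a b ha hb =>
      obtain ⟨na, wa, rfl⟩ := ha
      obtain ⟨nb, wb, rfl⟩ := hb
      refine ⟨max na nb, (Submodule.inclusion (hmono (le_max_left _ _))).lTensor _ wa +
        (Submodule.inclusion (hmono (le_max_right _ _))).lTensor _ wb, ?_⟩
      rw [map_add, ← LinearMap.lTensor_comp_apply, ← LinearMap.lTensor_comp_apply]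
      rfl
  have hQn : TorZero R R' (Qn n) :=
    torZero_of_pow_smul h (Nat.succ_pos n) fun q => Subtype.ext (by
      rw [Submodule.coe_smul, Submodule.coe_zero]; exact q.2)
  suffices w = 0 by rw [this, map_zero]
  apply hQn
  apply Module.Flat.lTensor_preserves_injective_linearMap (M := R' →₀ R) _ (Qn n).injective_subtype
  rw [← LinearMap.comp_apply, LinearMap.lTensor_comp_rTensor, ← LinearMap.rTensor_comp_lTensor,
    LinearMap.comp_apply, hz, map_zero, map_zero]

/-- `Tor₁(R', f ^ n R) = 0`. -/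
theorem torZero_span (h : EtGlue.IsGlueingPair R R' f) {n : ℕ} (hn : 0 < n) :
    TorZero R R' ↥(Ideal.span {f ^ n}) := by
  let I := Ideal.span {f ^ n}
  let u : R →ₗ[R] I := LinearMap.toSpanSingleton R I ⟨f ^ n, Ideal.mem_span_singleton_self _⟩
  have hu : Function.Surjective u := fun ⟨y, hy⟩ => by
    obtain ⟨r, hr⟩ := Ideal.mem_span_singleton'.mp hy
    exact ⟨r, Subtype.ext hr⟩
  refine TorZero.of_presentation (TorZero.of_flat (Q := R)) (f := (LinearMap.ker u).subtype)
    (LinearMap.exact_subtype_ker_map u) hu ?_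
  rw [injective_iff_map_eq_zero]
  intro z hz
  obtain ⟨k, z', rfl⟩ := BLGlue.decomp h.1 n z
  have hk : ∀ k : LinearMap.ker u, f ^ n • k = 0 := fun k => Subtype.ext (by
    show f ^ n * k.1 = 0
    rw [mul_comm]
    exact congrArg Subtype.val (LinearMap.mem_ker.mp k.2))
  have hz' : f ^ n • z' = 0 := by
    clear hz
    induction z' using TensorProduct.induction_on with
    | zero => exact smul_zero _
    | tmul a k => rw [← TensorProduct.tmul_smul, hk, TensorProduct.tmul_zero]
    | add a b ha hb => rw [smul_add, ha, hb, add_zero]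
  rw [hz', add_zero] at hz ⊢
  have hz0 := congrArg (TensorProduct.rid R R') hz
  rw [LinearMap.lTensor_tmul, TensorProduct.rid_tmul, map_zero, Algebra.smul_def, mul_one] at hz0
  have : k = 0 := Subtype.ext (eq_zero_of_map_eq_zero h (n := n) hz0
    (by simpa using congrArg Subtype.val (hk k)))
  rw [this, TensorProduct.tmul_zero]

/-- `Tor₁(R', R / T) = 0` for the submodule `T` of `f`-power torsion elements. -/
theorem torZero_quot_torsion (h : EtGlue.IsGlueingPair R R' f) (T : Ideal R)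
    (hT : ∀ r, r ∈ T ↔ ∃ n : ℕ, f ^ n * r = 0) : TorZero R R' (R ⧸ T) := by
  rw [torZero_quotient_iff, injective_iff_map_eq_zero]
  intro z hz
  obtain ⟨n, hn⟩ : ∃ n : ℕ, f ^ n • z = 0 := by
    clear hz
    induction z using TensorProduct.induction_on with
    | zero => exact ⟨0, smul_zero _⟩
    | tmul a r =>
      obtain ⟨n, hn⟩ := (hT _).mp r.2
      exact ⟨n, by rw [← TensorProduct.tmul_smul, show f ^ n • r = 0 from Subtype.ext hn,
        TensorProduct.tmul_zero]⟩
    | add a b ha hb =>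
      obtain ⟨n, hn⟩ := ha
      obtain ⟨m, hm⟩ := hb
      exact ⟨n + m, by rw [smul_add, pow_add, mul_comm, mul_smul, hn, smul_zero, mul_comm, mul_smul, hm,
        smul_zero, add_zero]⟩
  obtain ⟨k, rfl, -⟩ := BLGlue.exists_torsion h z hn
  have hz0 := congrArg (TensorProduct.rid R R') hz
  rw [LinearMap.lTensor_tmul, TensorProduct.rid_tmul, map_zero, Algebra.smul_def, mul_one] at hz0
  obtain ⟨m, hm⟩ := (hT _).mp k.2
  have : k = 0 := Subtype.ext (eq_zero_of_map_eq_zero h hz0 hm)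
  rw [this, TensorProduct.tmul_zero]

end Groth.Agent.BLTor
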